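import Cfsg.Agent.H999.RowPSL
import Cfsg.Agent.H173.RU.Main
import Cfsg.Agent.H988.CopCyc.Psl
import Cfsg.Agent.H988.CopCyc.Psu
import Cfsg.Agent.H672.Four.Interface
import Cfsg.Agent.S0205

/-!
# S4773, F2a: elements fixed by no coprime automorphism of prime order: linear and unitary groups (helper667)
-/

set_option autoImplicit false

namespace Cfsg.Agent.H667.Four

open Cfsg Matrix
open Cfsg.Agent.H672.Four

section general

/-- Only groups with a coprime automorphism of prime order have to be considered. -/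
theorem es_of {S : Type*} [Group S]
    (h : ∀ a : MulAut S, (orderOf a).Prime → ¬ orderOf a ∣ Nat.card S → ∃ s : S, ES s) : ∃ s : S, ES s := by
  by_cases h1 : ∃ a : MulAut S, (orderOf a).Prime ∧ ¬ orderOf a ∣ Nat.card S
  · obtain ⟨a, ha, hd⟩ := h1
    exact h a ha hd
  · exact ⟨1, fun a ha hd => absurd ⟨a, ha, hd⟩ h1⟩

theorem es_congr {S : Type*} {T : Type*} [Group S] [Group T] (e : S ≃* T) {s : S} (h : ES s) : ES (e s) := by
  intro a ha hd hfix
  have h1 : orderOf ((MulAut.congr e).symm a) = orderOf a := MulEquiv.orderOf_eq _ a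
  refine h ((MulAut.congr e).symm a) (by rw [h1]; exact ha) (by rw [h1, Nat.card_congr e.toEquiv]; exact hd) ?_
  show e.symm (a (e s)) = s
  rw [hfix, MulEquiv.symm_apply_apply]

/-- A nonabelian finite simple group has even order. -/
theorem two_dvd_card {K : Type*} [Group K] [Finite K] [IsSimpleGroup K] (hK : ¬ IsMulCommutative K) :
    2 ∣ Nat.card K := by
  by_contra h
  have h1 : Group.IsSolvable K := Cfsg.Agent.S0205.result (by
    rw [← Nat.not_even_iff_odd]
    exact fun h' => h h'.two_dvd)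
  apply hK
  have h3 : commutator K = ⊥ := by
    refine (IsSimpleGroup.eq_bot_or_eq_top_of_normal _ inferInstance).resolve_right fun h3 => ?_
    have h4 : Nontrivial K := IsSimpleGroup.toNontrivial
    exact (Group.IsSolvable.commutator_lt_top_of_nontrivial K).ne h3
  have h4 : Subgroup.center K = ⊤ := (commutator_eq_bot_iff_center_eq_top (G := K)).1 h3
  refine ⟨⟨fun a b => ?_⟩⟩
  have h5 : a ∈ Subgroup.center K := by rw [h4]; trivial
  exact (Subgroup.mem_center_iff.1 h5 b).symm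

theorem ne_two {K : Type*} [Group K] [Finite K] [IsSimpleGroup K] (hK : ¬ IsMulCommutative K) {a : MulAut K}
    (hd : ¬ orderOf a ∣ Nat.card K) : orderOf a ≠ 2 := fun h => hd (by rw [h]; exact two_dvd_card hK)

/-- An automorphism of prime order not dividing `|K|`, with two inner powers of exponents `m`, `m'` such that the
common prime divisors of `m` and `m'` divide `|K|`: impossible. -/
theorem not_inner_pow {K : Type*} [Group K] [Finite K] {a : MulAut K} (ha : (orderOf a).Prime)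
    (hd : ¬ orderOf a ∣ Nat.card K) {m m' : ℕ}
    (h1 : a ^ m ∈ (MulAut.conj : K →* MulAut K).range) (h2 : a ^ m' ∈ (MulAut.conj : K →* MulAut K).range)
    (h : ∀ r : ℕ, r.Prime → r ∣ m → r ∣ m' → r ∣ Nat.card K) : False := by
  have h4 : a ^ Nat.gcd m m' ∈ (MulAut.conj : K →* MulAut K).range := by
    have e : a ^ (Nat.gcd m m' : ℤ) = (a ^ m) ^ (Nat.gcdA m m') * (a ^ m') ^ (Nat.gcdB m m') := by
      rw [Nat.gcd_eq_gcd_ab, _root_.zpow_add, _root_.zpow_mul, _root_.zpow_mul, _root_.zpow_natCast,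
        _root_.zpow_natCast]
    rw [_root_.zpow_natCast] at e
    rw [e]
    exact mul_mem (zpow_mem h1 _) (zpow_mem h2 _)
  have h5 : a = 1 := by
    refine Cfsg.Agent.H988.CopCyc.eq_one_of_pow_inner (A := Subgroup.zpowers a) ?_ (Subgroup.mem_zpowers a)
      (n := Nat.gcd m m') (fun r hr hrd => h r hr (hrd.trans (Nat.gcd_dvd_left _ _)) (hrd.trans (Nat.gcd_dvd_right _ _)))
      h4
    rw [Nat.card_zpowers]
    exact (Nat.Prime.coprime_iff_not_dvd ha).2 hd
  rw [h5, orderOf_one] at ha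
  exact Nat.not_prime_one ha

end general

section linear

open Module Cfsg.Agent.H568
open Cfsg.Agent.ClassicalGeometry.AutPSL.Root
open Cfsg.Agent.ClassicalGeometry.AutPSL.Auto
open Cfsg.Agent.ClassicalGeometry.AutPSL.Main
open Cfsg.Agent.CpAut.Psl
open Cfsg.Agent.LieExceptional.SingerCentralizer
open Cfsg.Agent.Lib.Zsigmondy
open Cfsg.Agent.H999.RowPSL

variable {F : Type*} [Field F] [Fintype F] {n : ℕ}

/-- Coprime automorphisms of prime order of `PSL n F` are conjugate to field automorphisms. -/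
theorem psl_conj_fld (hn : 2 ≤ n) (h2 : 2 ∣ Nat.card (Matrix.ProjectiveSpecialLinearGroup (Fin n) F))
    {a : MulAut (Matrix.ProjectiveSpecialLinearGroup (Fin n) F)} (ha : (orderOf a).Prime)
    (hd : ¬ orderOf a ∣ Nat.card (Matrix.ProjectiveSpecialLinearGroup (Fin n) F)) :
    ∃ (σ : F ≃+* F) (B : GL (Fin n) F), orderOf σ = orderOf a ∧ a = lift (cj B * fld σ * (cj B)⁻¹) := by
  have hnt : Nontrivial (Fin n) := Fin.nontrivial_iff_two_le.2 hn
  have hp2 : orderOf a ≠ 2 := fun h => hd (by rw [h]; exact h2)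
  obtain ⟨A, σ, hA⟩ := exists_of_odd hn (ha.odd_of_ne_two hp2) (pow_orderOf_eq_one a)
  by_cases hσ : σ = 1
  · exfalso
    rw [hσ, map_one, mul_one] at hA
    refine not_inner_pow ha hd (m := n) (m' := Nat.card Fˣ) ?_ ?_
      (fun r hr h1 h3 => Cfsg.Agent.H988.CopCyc.Psl.prime_dvd hn h2 hr h1 h3)
    · rw [hA]
      have := Cfsg.Agent.H988.CopCyc.Psl.pow_card_inner A
      rwa [Fintype.card_fin] at this
    · rw [hA]
      exact Cfsg.Agent.H988.CopCyc.Psl.pow_units_inner A
  · obtain ⟨h1, B, hB⟩ := exists_conj ha (A := A) (σ := σ) (by rw [← hA, pow_orderOf_eq_one]) hσ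
    exact ⟨σ, B, h1, by rw [hA, hB]⟩

/-- **Elements fixed by no coprime automorphism: `PSL n F`.** -/
theorem es_psl_aux (hn : 2 ≤ n) (h2 : 2 ∣ Nat.card (Matrix.ProjectiveSpecialLinearGroup (Fin n) F)) :
    ∃ s : Matrix.ProjectiveSpecialLinearGroup (Fin n) F, ES s := by
  refine es_of fun a ha hd => ?_
  -- `|F| = r ^ f`
  obtain ⟨r, hr⟩ := CharP.exists F
  have hfr : Fact r.Prime := ⟨CharP.char_is_prime F r⟩
  obtain ⟨f', hrp, hf'⟩ := FiniteField.card F r
  have hfp : 0 < (f' : ℕ) := f'.pos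
  set f := (f' : ℕ) with hff
  have hr2 := hrp.two_le
  -- the orders of field automorphisms
  have hfix : ∀ {σ : F ≃+* F} {p : ℕ}, orderOf σ = p → p.Prime → ∃ g : ℕ, 0 < g ∧ Nat.card ↥(fixf σ) = r ^ g ∧
      f = g * p := by
    intro σ p ho hp
    have : Fact p.Prime := ⟨hp⟩
    have hft : Fintype ↥(fixf σ) := Fintype.ofFinite _
    have hq0 : Fintype.card F = Fintype.card ↥(fixf σ) ^ p := by
      rw [CpAutU.Fld.card_fixf ho, Nat.card_eq_fintype_card]
    have hr0 : CharP ↥(fixf σ) r := inferInstance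
    obtain ⟨g, -, hg⟩ := FiniteField.card ↥(fixf σ) r
    refine ⟨g, g.pos, by rw [Nat.card_eq_fintype_card, hg], ?_⟩
    rw [hf', hg, ← pow_mul] at hq0
    exact Nat.pow_right_injective hr2 hq0
  obtain ⟨σ, B, ho, -⟩ := psl_conj_fld hn h2 ha hd
  obtain ⟨g, hg0, -, hgf⟩ := hfix ho ha
  have hp2 : orderOf a ≠ 2 := fun h => hd (by rw [h]; exact h2)
  have hp3 : 3 ≤ orderOf a := by
    have := ha.two_le
    omega
  have hf3 : 3 ≤ f := by
    rw [hgf]
    calc 3 = 1 * 3 := by norm_num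
      _ ≤ g * orderOf a := Nat.mul_le_mul hg0 hp3
  have hfn : 6 ≤ f * n := by
    calc 6 = 3 * 2 := by norm_num
      _ ≤ f * n := Nat.mul_le_mul hf3 hn
  -- the exceptional case
  have h26 : ¬ (r = 2 ∧ f * n = 6) := by
    rintro ⟨h2', h6⟩
    have hf : f = 3 := by nlinarith
    have hn2 : n = 2 := by
      rw [hf] at h6
      omega
    have hp : orderOf a = 3 := by
      have h1 : orderOf a ∣ 3 := by rw [← hf, hgf]; exact Dvd.intro_left _ rfl
      exact (Nat.prime_dvd_prime_iff_eq ha Nat.prime_three).1 h1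
    apply hd
    rw [hp]
    have h8 : Fintype.card F = 8 := by rw [hf', hf, h2']; norm_num
    have hc : ¬ 3 ∣ Nat.card (pr : Matrix.SpecialLinearGroup (Fin n) F →* _).ker :=
      not_dvd_center (by omega) Nat.prime_three (by rw [h8]; norm_num)
    have hs : 3 ∣ Nat.card (Matrix.SpecialLinearGroup (Fin n) F) :=
      dvd_card_SL (j := 2) le_rfl hn (by rw [h8]; norm_num)
    rw [Subgroup.card_eq_card_quotient_mul_card_subgroup (pr : Matrix.SpecialLinearGroup (Fin n) F →* _).ker,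
      Nat.card_congr (QuotientGroup.quotientKerEquivOfSurjective _ pr_surjective).toEquiv] at hs
    exact (Nat.prime_three.dvd_mul.1 hs).resolve_right hc
  obtain ⟨l, hl, hlm, hnl, hlr⟩ := exists_primitive (a := r) (n := f * n) hr2 (by omega)
    (fun h => by omega) h26
  have hlm' : ∀ m, l ∣ Fintype.card F ^ m - 1 ↔ n ∣ m := by
    intro m
    rw [hf', ← pow_mul, hlm]
    exact Nat.mul_dvd_mul_iff_left hfp
  have hker : ¬ l ∣ Nat.card (pr : Matrix.SpecialLinearGroup (Fin n) F →* _).ker := by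
    refine not_dvd_center (by omega) hl ?_
    intro h
    have h1 := (hlm' 1).1 (by rwa [pow_one])
    have h2 := Nat.dvd_one.1 h1
    omega
  have hfl : Fact l.Prime := ⟨hl⟩
  obtain ⟨x, hx⟩ := exists_prime_orderOf_dvd_card' (G := Matrix.SpecialLinearGroup (Fin n) F) l
    (dvd_card_SL (j := n) hn le_rfl ((hlm' n).2 (dvd_refl n)))
  have hox := orderOf_pr hl hker hx
  refine ⟨pr x, ?_⟩
  intro b hb hbd hbx
  obtain ⟨τ, C, hoτ, hbC⟩ := psl_conj_fld hn h2 hb hbd
  obtain ⟨g', hg'0, hg', hgf'⟩ := hfix hoτ hb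
  set z := (lift (cj C))⁻¹ (pr x) with hz
  have hzo : orderOf z = l := by rw [hz, MulEquiv.orderOf_eq, hox]
  have hez : lift (fld τ) z = z := by
    rw [hbC, map_mul, map_mul, map_inv, MulAut.mul_apply, MulAut.mul_apply] at hbx
    have h1 := congrArg (fun t => (lift (cj C))⁻¹ t) hbx
    rw [hz]
    simpa only [MulAut.inv_apply_self] using h1
  obtain ⟨y, hy, hey⟩ := exists_fixed_lift hl hker (fld τ) hzo hez
  obtain ⟨y', hy'⟩ := exists_emb hey
  have hinj : Function.Injective (emb (ι := Fin n) τ) := by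
    intro a b hab
    apply Subtype.ext
    ext i j
    exact congrFun (congrFun (congrArg Subtype.val hab) i) j
  have h1 : orderOf y' = l := by rw [← hy, ← hy', orderOf_injective _ hinj]
  have h3 : l ∣ Nat.card (Matrix.SpecialLinearGroup (Fin n) ↥(fixf τ)) := by
    rw [← h1]
    exact orderOf_dvd_natCard y'
  have hft : Fintype ↥(fixf τ) := Fintype.ofFinite _
  rw [Nat.card_eq_fintype_card] at hg'
  rw [H953.card_SL n (by omega), hg'] at h3
  rcases hl.dvd_mul.1 h3 with h1 | h1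
  · exact hlr (hl.dvd_of_dvd_pow (hl.dvd_of_dvd_pow h1))
  · obtain ⟨j, hj, hlj⟩ := (Nat.Prime.prime hl).exists_mem_finset_dvd h1
    rw [Finset.mem_Icc] at hj
    rw [← pow_mul, hlm] at hlj
    have hj1 := hj.1
    have h4 := Nat.le_of_dvd (by positivity) hlj
    have h5 : g' * j ≤ g' * n := Nat.mul_le_mul_left _ hj.2
    have h6 : g' * n < f * n := by
      rw [hgf']
      apply Nat.mul_lt_mul_of_pos_right _ (by omega)
      calc g' = g' * 1 := (mul_one _).symm
        _ < g' * orderOf b := Nat.mul_lt_mul_of_pos_left hb.one_lt hg'0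
    omega

/-- **F2a, linear groups.** -/
theorem es_psl {S : Type*} [Group S] [Finite S] [IsSimpleGroup S] (hS : ¬ IsMulCommutative S) (h : IsPSL S) :
    ∃ s : S, ES s := by
  obtain ⟨F, _, _, n, hn, -, ⟨e⟩⟩ := h
  obtain ⟨s, hs⟩ := es_psl_aux (F := F) hn (by rw [← Nat.card_congr e.toEquiv]; exact two_dvd_card hS)
  exact ⟨e.symm s, es_congr e.symm hs⟩

end linear

section unitary

open Module Subgroup
open Cfsg.Agent.LieClassical.HermBasic Cfsg.Agent.LieClassical.HermSiegel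
open Cfsg.Agent.ClassicalGeometry.HermOrtho
open Cfsg.Agent.ClassicalGeometry.PSUAutBasic (pr pr_surjective pr_eq_one_iff exists_center_mul)
open Cfsg.Agent.ClassicalGeometry.PSUAutCount (gm toAut)
open Cfsg.Agent.H173.RU Cfsg.Agent.GpUn

variable {F : Type*} [Field F] [Fintype F] {q n : ℕ}

/-- Coprime automorphisms of prime order of `PSU n F q` are not linear. -/
theorem psu_fld (hF : Fintype.card F = q ^ 2) (hn : 3 ≤ n) (h32 : ¬ (n = 3 ∧ q = 2))
    {a : MulAut (PSU n F q)} (ha : (orderOf a).Prime) (hd : ¬ orderOf a ∣ Nat.card (PSU n F q)) :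
    ∃ (A : GU n F q) (ρ : F ≃+* F), ρ ≠ 1 ∧ a = toAut A ρ := by
  obtain ⟨A, ρ, hA⟩ := Cfsg.Agent.ClassicalGeometry.PSUAutMain.exists_toAut hF hn h32 a
  refine ⟨A, ρ, ?_, hA⟩
  rintro rfl
  have hA' : a = Cfsg.Agent.Schreier.PSU.f₁ A := hA
  refine not_inner_pow ha hd (m := n) (m' := q + 1) ?_ ?_
    (fun r hr h1 h3 => Cfsg.Agent.H988.CopCyc.Psu.prime_dvd hF hn h32 hr h1 h3)
  · rw [hA']
    exact Cfsg.Agent.H988.CopCyc.Psu.pow_n_inner hF A
  · rw [hA']
    exact Cfsg.Agent.H988.CopCyc.Psu.pow_q_inner hF A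

/-- **Elements fixed by no coprime automorphism: `PSU n F q`.** -/
theorem es_psu_aux (hF : Fintype.card F = q ^ 2) (hn : 3 ≤ n) (h32 : ¬ (n = 3 ∧ q = 2))
    (h2 : 2 ∣ Nat.card (PSU n F q)) : ∃ s : PSU n F q, ES s := by
  have hq := two_le hF
  obtain ⟨r, f, hr, hch, hqr, hf⟩ := exists_prime_pow hF
  obtain ⟨k, hk, hk3, hkn, hnk⟩ := exists_k hn
  refine es_of fun a ha hd => ?_
  have hne : ∀ {b : MulAut (PSU n F q)}, ¬ orderOf b ∣ Nat.card (PSU n F q) → orderOf b ≠ 2 :=
    fun hb h => hb (by rw [h]; exact h2)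
  obtain ⟨A, ρ, hρ, hA⟩ := psu_fld hF hn h32 ha hd
  obtain ⟨-, hq8⟩ := dvd_of_field hF hn hr hqr ha (hne hd) (A := A) (ρ := ρ)
    (by rw [← hA, pow_orderOf_eq_one]) hρ
  obtain ⟨l, h, hord, hl1, hl2⟩ := exists_odd hr hf hqr hk hk3 (by omega)
  obtain ⟨y, hy⟩ := h.exists_elt (n := n) hF (by omega) hkn
  have hyl : y ^ l = 1 := by rw [← hy]; exact pow_orderOf_eq_one y
  have hy1 : y ≠ 1 := by
    rintro rfl
    rw [orderOf_one] at hy
    exact h.prime.one_lt.ne hy
  have hc := h.coprime_succ (by omega) (by omega)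
  refine ⟨pr n F q y, ?_⟩
  intro b hb hbd
  obtain ⟨B, τ, hτ, hB⟩ := psu_fld hF hn h32 hb hbd
  rw [hB]
  have hp3 : 3 ≤ orderOf b := by
    have := hb.two_le
    have := hne hbd
    omega
  have h6 : 3 * k ≤ orderOf b * k := Nat.mul_le_mul_right _ hp3
  refine h.field_free hF hn (by omega) hr hf hqr hord hb (hne hbd) (by omega) (by rw [← hB, pow_orderOf_eq_one])
    hτ (by rw [← map_pow, hyl, map_one]) ?_
  intro h1
  apply hy1
  refine eq_of_pr_eq hF hn hc hyl (one_pow _) (by rw [h1, map_one])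

/-- **F2a, unitary groups.** -/
theorem es_psu {S : Type*} [Group S] [Finite S] [IsSimpleGroup S] (hS : ¬ IsMulCommutative S) (h : IsPSU S) :
    ∃ s : S, ES s := by
  obtain ⟨F, _, _, n, q, hF, hn, h32, ⟨e⟩⟩ := h
  obtain ⟨s, hs⟩ := es_psu_aux hF hn h32 (by rw [← Nat.card_congr e.toEquiv]; exact two_dvd_card hS)
  exact ⟨e.symm s, es_congr e.symm hs⟩

end unitary

end Cfsg.Agent.H667.Four
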